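import Mathlib.RingTheory.PowerSeries.Exp
import Mathlib.RingTheory.PowerSeries.Derivative
import Mathlib.RingTheory.PowerSeries.Inverse
import Mathlib.RingTheory.Binomial

/-! # The Todd series -/

set_option autoImplicit false

namespace Groth.Agent.Todd26

open PowerSeries

/-- `exp (m t)`. -/
noncomputable def W (m : ℚ) : ℚ⟦X⟧ := rescale m (exp ℚ)

theorem derivative_W (m : ℚ) : d⁄dX ℚ (W m) = C m * W m := by
  ext n
  rw [coeff_derivative, coeff_C_mul, W, coeff_rescale, coeff_rescale, coeff_exp, coeff_exp, Nat.factorial_succ]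
  simp only [eq_ratCast, Rat.cast_id, Nat.cast_mul, pow_succ]
  have : (n.factorial : ℚ) ≠ 0 := Nat.cast_ne_zero.2 n.factorial_ne_zero
  field_simp
  push_cast
  ring

theorem coeff_one_exp_sub_one : coeff 1 (exp ℚ - 1) = 1 := by
  simp [coeff_exp]

theorem constantCoeff_todd {f : ℚ⟦X⟧} (hf : f * (exp ℚ - 1) = X * exp ℚ) : constantCoeff f = 1 := by
  have h := congrArg (coeff 1) hf
  rw [coeff_mul, Finset.Nat.antidiagonal_succ] at h
  simpa [coeff_exp, coeff_one_X] using h

theorem X_mul_derivative {f : ℚ⟦X⟧} (hf : f * (exp ℚ - 1) = X * exp ℚ) :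
    X * d⁄dX ℚ f = f + X * f - f ^ 2 := by
  have hne : exp ℚ ≠ 0 := fun h => by
    have := congrArg constantCoeff h
    rw [constantCoeff_exp, map_zero] at this
    exact one_ne_zero this
  have h := congrArg (d⁄dX ℚ) hf
  rw [Derivation.leibniz, Derivation.leibniz, map_sub, derivative_exp, derivative_one, derivative_X, sub_zero] at h
  simp only [smul_eq_mul, mul_one] at h
  apply mul_right_cancel₀ hne
  linear_combination f * h - (d⁄dX ℚ f) * hf

theorem recurrence {f : ℚ⟦X⟧} (hf : f * (exp ℚ - 1) = X * exp ℚ) (m : ℚ) (n : ℕ) :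
    (n + 1 : ℚ) * coeff (n + 1) (W m * f ^ (n + 2)) = (m + n + 1) * coeff n (W m * f ^ (n + 1)) := by
  have h : X * d⁄dX ℚ (W m * f ^ (n + 1)) = C (m + n + 1) * (X * (W m * f ^ (n + 1))) +
      C ((n : ℚ) + 1) * (W m * f ^ (n + 1)) - C ((n : ℚ) + 1) * (W m * f ^ (n + 2)) := by
    rw [Derivation.leibniz, derivative_W, derivative_pow, map_add, map_add, map_add, map_one, map_natCast]
    simp only [smul_eq_mul, Nat.add_sub_cancel]
    push_cast
    linear_combination (W m * ((n : ℚ⟦X⟧) + 1) * f ^ n) * X_mul_derivative hf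
  have h2 := congrArg (coeff (n + 1)) h
  rw [map_sub, map_add, coeff_C_mul, coeff_C_mul, coeff_C_mul, coeff_succ_X_mul, coeff_succ_X_mul, coeff_derivative] at h2
  linear_combination h2

theorem coeff_todd {f : ℚ⟦X⟧} (hf : f * (exp ℚ - 1) = X * exp ℚ) (m : ℤ) (n : ℕ) :
    coeff n (W (m : ℚ) * f ^ (n + 1)) = ((Ring.choose (m + n : ℤ) n : ℤ) : ℚ) := by
  induction n with
  | zero =>
    rw [coeff_zero_eq_constantCoeff_apply, map_mul, map_pow, constantCoeff_todd hf, Ring.choose_zero_right,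
      show constantCoeff (W (m : ℚ)) = 1 by
        rw [← coeff_zero_eq_constantCoeff_apply, W, coeff_rescale, coeff_exp]; simp]
    simp
  | succ n ih =>
    have h := recurrence hf m n
    rw [ih] at h
    have hc := Ring.choose_smul_choose (m + (n + 1 : ℕ) : ℤ) (n := n + 1) (k := 1) (Nat.succ_pos n)
    rw [Nat.choose_one_right, Ring.choose_one_right, Nat.add_sub_cancel, nsmul_eq_mul,
      show (m + ((n + 1 : ℕ) : ℤ) - ((1 : ℕ) : ℤ)) = m + n by push_cast; ring] at hc
    have hc' := congrArg (fun z : ℤ => (z : ℚ)) hc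
    push_cast at hc' h ⊢
    have hn : ((n : ℚ) + 1) ≠ 0 := by positivity
    apply mul_left_cancel₀ hn
    linear_combination h - hc'

theorem exists_todd : ∃ f : ℚ⟦X⟧, f * (exp ℚ - 1) = X * exp ℚ := by
  obtain ⟨g, hg⟩ : (X : ℚ⟦X⟧) ∣ exp ℚ - 1 := X_dvd_iff.2 (by simp)
  have hg0 : constantCoeff g ≠ 0 := by
    have h := coeff_one_exp_sub_one
    rw [hg, show (1 : ℕ) = 0 + 1 from rfl, coeff_succ_X_mul, coeff_zero_eq_constantCoeff_apply] at h
    rw [h]; exact one_ne_zero
  refine ⟨g⁻¹ * exp ℚ, ?_⟩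
  rw [hg]
  calc g⁻¹ * exp ℚ * (X * g) = X * exp ℚ * (g⁻¹ * g) := by ring
    _ = X * exp ℚ := by rw [PowerSeries.inv_mul_cancel g hg0, mul_one]

theorem eq_of_coeff {f g : ℚ⟦X⟧} (hf : ∀ n : ℕ, coeff n (f ^ (n + 1)) = 1) (hg : ∀ n : ℕ, coeff n (g ^ (n + 1)) = 1) :
    f = g := by
  have hf0 : constantCoeff f = 1 := by simpa using hf 0
  have hg0 : constantCoeff g = 1 := by simpa using hg 0
  rw [← sub_eq_zero]
  refine PowerSeries.ext fun n => ?_
  induction n using Nat.strong_induction_on with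
  | _ n ih =>
    have hdvd : X ^ n ∣ f - g := X_pow_dvd_iff.2 fun k hk => ih k hk
    obtain ⟨h, hh⟩ := hdvd
    have hgeom := geom_sum₂_mul f g (n + 1)
    have key := congrArg (coeff n) hgeom
    rw [map_sub, hf n, hg n, sub_self, hh, mul_left_comm, coeff_X_pow_mul' , if_pos le_rfl, Nat.sub_self,
      coeff_zero_eq_constantCoeff_apply, map_mul, map_sum] at key
    simp only [map_mul, map_pow, hf0, hg0, one_pow, mul_one, Finset.sum_const, Finset.card_range, nsmul_eq_mul] at key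
    have h0 : constantCoeff h = 0 := by
      rcases mul_eq_zero.1 key with h1 | h1
      · exact absurd h1 (by positivity)
      · exact h1
    rw [hh, coeff_X_pow_mul', if_pos le_rfl, Nat.sub_self, coeff_zero_eq_constantCoeff_apply, h0, map_zero]

theorem todd_iff (f : ℚ⟦X⟧) :
    (∀ n : ℕ, coeff n (f ^ (n + 1)) = 1) ↔ f * (exp ℚ - 1) = X * exp ℚ := by
  have key : ∀ g : ℚ⟦X⟧, g * (exp ℚ - 1) = X * exp ℚ → ∀ n : ℕ, coeff n (g ^ (n + 1)) = 1 := fun g hg n => by
    have h := coeff_todd hg 0 n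
    rw [W, Int.cast_zero, rescale_zero_apply, constantCoeff_exp, map_one, one_mul, zero_add, Ring.choose_natCast,
      Nat.choose_self] at h
    simpa using h
  refine ⟨fun h => ?_, key f⟩
  obtain ⟨g, hg⟩ := exists_todd
  rwa [eq_of_coeff h (key g hg)]

end Groth.Agent.Todd26
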